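import Mathlib.RingTheory.FinitePresentation
import Mathlib.RingTheory.Localization.AtPrime.Basic
import Mathlib.RingTheory.Localization.Away.Basic

/-!
# Spreading out morphisms into a localisation at a prime
-/

set_option autoImplicit false

noncomputable section

namespace GrothLib.SpreadLoc

universe u v w

variable {R : Type u} [CommRing R] {B : Type v} [CommRing B] [Algebra R B]

/-- The structure map into `B_g`. -/
abbrev nat (g : B) : B →ₐ[R] Localization.Away g := IsScalarTower.toAlgHom R B (Localization.Away g)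

theorem isUnit_nat_of_dvd {g h : B} (d : g ∣ h) : IsUnit (nat (R := R) h g) :=
  isUnit_of_dvd_unit (map_dvd _ d) (IsLocalization.Away.algebraMap_isUnit h)

theorem algHom_ext {g : B} {T : Type w} [CommRing T] [Algebra R T] {a b : Localization.Away g →ₐ[R] T}
    (h : a.comp (nat g) = b.comp (nat g)) : a = b :=
  AlgHom.coe_ringHom_injective
    (IsLocalization.ringHom_ext (Submonoid.powers g) (congrArg AlgHom.toRingHom h))

/-- Universal property of `B_g`. -/
def extend {g : B} {T : Type w} [CommRing T] [Algebra R T] (f : B →ₐ[R] T) (h : IsUnit (f g)) :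
    Localization.Away g →ₐ[R] T :=
  IsLocalization.Away.liftAlgHom g h

@[simp] theorem extend_comp {g : B} {T : Type w} [CommRing T] [Algebra R T] (f : B →ₐ[R] T)
    (h : IsUnit (f g)) : (extend f h).comp (nat g) = f :=
  AlgHom.ext fun x => IsLocalization.Away.lift_eq g h x

@[simp] theorem extend_apply {g : B} {T : Type w} [CommRing T] [Algebra R T] (f : B →ₐ[R] T)
    (h : IsUnit (f g)) (x : B) : extend f h (nat (R := R) g x) = f x :=
  IsLocalization.Away.lift_eq g h x

/-- `B_g → B_h`. -/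
def mapDvd {g h : B} (d : g ∣ h) : Localization.Away g →ₐ[R] Localization.Away h :=
  extend (nat h) (isUnit_nat_of_dvd d)

variable (P : Ideal B) [P.IsPrime]

/-- The structure map into `B_P`. -/
abbrev natP : B →ₐ[R] Localization.AtPrime P := IsScalarTower.toAlgHom R B (Localization.AtPrime P)

/-- `B_g → B_P`. -/
def toPrime {g : B} (hg : g ∉ P) : Localization.Away g →ₐ[R] Localization.AtPrime P :=
  extend (natP P) (IsLocalization.map_units (Localization.AtPrime P) (⟨g, hg⟩ : P.primeCompl))

theorem toPrime_comp_mapDvd {g h : B} (d : g ∣ h) (hg : g ∉ P) (hh : h ∉ P) :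
    (toPrime (R := R) P hh).comp (mapDvd d) = toPrime P hg :=
  algHom_ext (by rw [AlgHom.comp_assoc, mapDvd, toPrime, toPrime, extend_comp, extend_comp, extend_comp])

theorem mul_notMem {g h : B} (hg : g ∉ P) (hh : h ∉ P) : g * h ∉ P :=
  fun hm => (‹P.IsPrime›.mem_or_mem hm).elim hg hh

theorem exists_mul_eq_nat {g : B} (x : Localization.Away g) :
    ∃ (c : B) (u : (Localization.Away g)ˣ), x * u = nat (R := R) g c := by
  obtain ⟨n, a, h⟩ := IsLocalization.Away.surj g x
  exact ⟨a, (IsLocalization.Away.algebraMap_isUnit (S := Localization.Away g) g).unit ^ n, by simpa using h⟩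

/-- An element killed in `B_P` is killed in some `B_{gc}`. -/
theorem exists_map_eq_zero {g : B} (hg : g ∉ P) {x : Localization.Away g}
    (h : toPrime (R := R) P hg x = 0) :
    ∃ c, c ∉ P ∧ ∀ (k : B) (d : g ∣ k), c ∣ k → mapDvd (R := R) d x = 0 := by
  obtain ⟨a, u, ha⟩ := exists_mul_eq_nat (R := R) x
  have h0 : natP (R := R) P a = 0 := by
    have := congrArg (toPrime (R := R) P hg) ha
    rwa [map_mul, h, zero_mul, toPrime, extend_apply, eq_comm] at this
  obtain ⟨c, hc⟩ := (IsLocalization.map_eq_zero_iff P.primeCompl _ a).mp h0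
  refine ⟨c, c.2, fun k d hck => ?_⟩
  have h1 : nat (R := R) k a = 0 := (isUnit_nat_of_dvd (R := R) hck).mul_right_eq_zero.mp
    (by rw [← map_mul, hc, map_zero])
  have h2 := congrArg (mapDvd (R := R) d) ha
  rw [map_mul, mapDvd, extend_apply, h1] at h2
  exact (u.isUnit.map (extend (nat (R := R) k) (isUnit_nat_of_dvd d))).mul_left_eq_zero.mp h2

variable {A : Type w} [CommRing A] [Algebra R A]

/-- Two maps out of a finite type algebra which agree in `B_P` agree in some `B_{gc}`. -/
theorem exists_comp_eq [Algebra.FiniteType R A] {g : B} (hg : g ∉ P) (a b : A →ₐ[R] Localization.Away g)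
    (h : (toPrime P hg).comp a = (toPrime P hg).comp b) :
    ∃ c, c ∉ P ∧ ∀ (k : B) (d : g ∣ k), c ∣ k → (mapDvd d).comp a = (mapDvd d).comp b := by
  classical
  obtain ⟨s, hs⟩ := ‹Algebra.FiniteType R A›.out
  have hx : ∀ x : s, toPrime (R := R) P hg (a x - b x) = 0 := fun x => by
    rw [map_sub, sub_eq_zero]; exact AlgHom.congr_fun h x
  choose c hc hk using fun x : s => exists_map_eq_zero P hg (hx x)
  refine ⟨∏ x, c x, fun hm => ?_, fun k d hck => ?_⟩
  · obtain ⟨x, -, hx'⟩ := (‹P.IsPrime›.prod_mem_iff).mp hm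
    exact hc x hx'
  · refine AlgHom.ext_of_adjoin_eq_top hs fun x hx' => ?_
    have h0 := hk ⟨x, hx'⟩ k d ((Finset.dvd_prod_of_mem c (Finset.mem_univ _)).trans hck)
    rwa [map_sub, sub_eq_zero] at h0

/-- A map from a finitely presented algebra to `B_P` comes from some `B_g`. -/
theorem exists_lift [Algebra.FinitePresentation R A] (φ : A →ₐ[R] Localization.AtPrime P) :
    ∃ (g : B) (hg : g ∉ P) (ψ : A →ₐ[R] Localization.Away g), (toPrime P hg).comp ψ = φ := by
  classical
  obtain ⟨n, π, hπ, hfg⟩ := ‹Algebra.FinitePresentation R A›.out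
  choose p hp using fun i => IsLocalization.surj P.primeCompl (φ (π (MvPolynomial.X i)))
  let g₀ : B := ∏ i, ((p i).2 : B)
  have hg₀ : g₀ ∉ P := fun hm => by
    obtain ⟨i, -, hi⟩ := (‹P.IsPrime›.prod_mem_iff).mp hm
    exact (p i).2.2 hi
  have hu : ∀ i, IsUnit (nat (R := R) g₀ ((p i).2 : B)) :=
    fun i => isUnit_nat_of_dvd (Finset.dvd_prod_of_mem _ (Finset.mem_univ i))
  let Ψ : MvPolynomial (Fin n) R →ₐ[R] Localization.Away g₀ :=
    MvPolynomial.aeval fun i => nat (R := R) g₀ (p i).1 * ↑((hu i).unit⁻¹)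
  have hΨ : (toPrime P hg₀).comp Ψ = φ.comp π := by
    refine MvPolynomial.algHom_ext fun i => ?_
    simp only [AlgHom.comp_apply, Ψ, MvPolynomial.aeval_X]
    have hu' : IsUnit (natP (R := R) P ((p i).2 : B)) := IsLocalization.map_units _ (p i).2
    apply hu'.mul_left_injective
    dsimp only
    have e1 : toPrime (R := R) P hg₀ (nat (R := R) g₀ ((p i).2 : B)) = natP (R := R) P ((p i).2 : B) :=
      extend_apply _ _ _
    conv_lhs => rw [← e1, ← map_mul, mul_assoc, IsUnit.val_inv_mul, mul_one, toPrime, extend_apply]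
    exact (hp i).symm
  obtain ⟨s, hs⟩ := hfg
  have hx : ∀ x : s, toPrime (R := R) P hg₀ (Ψ x) = 0 := fun x => by
    have hxk : π (x : MvPolynomial (Fin n) R) = 0 :=
      RingHom.mem_ker.mp ((congrArg (fun I : Ideal _ => (x : MvPolynomial (Fin n) R) ∈ I) hs).mp
        (Ideal.subset_span x.2))
    rw [← AlgHom.comp_apply, hΨ, AlgHom.comp_apply, hxk, map_zero]
  choose c hc hk using fun x : s => exists_map_eq_zero P hg₀ (hx x)
  let g := g₀ * ∏ x, c x
  have hg : g ∉ P := mul_notMem P hg₀ fun hm => by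
    obtain ⟨x, -, hx'⟩ := (‹P.IsPrime›.prod_mem_iff).mp hm
    exact hc x hx'
  have hd : g₀ ∣ g := dvd_mul_right _ _
  have hker : ∀ x, π x = 0 → mapDvd (R := R) hd (Ψ x) = 0 := by
    intro x hx0
    have : x ∈ RingHom.ker ((mapDvd (R := R) hd).comp Ψ) := by
      refine (show RingHom.ker π ≤ RingHom.ker ((mapDvd (R := R) hd).comp Ψ) from ?_) hx0
      show RingHom.ker π.toRingHom ≤ _
      rw [← hs]
      refine Ideal.span_le.mpr fun y hy => ?_
      exact hk ⟨y, hy⟩ g hd ((Finset.dvd_prod_of_mem c (Finset.mem_univ _)).trans (dvd_mul_left _ _))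
    exact this
  let ψ := AlgHom.liftOfSurjective π hπ ((mapDvd (R := R) hd).comp Ψ) hker
  refine ⟨g, hg, ψ, ?_⟩
  refine (AlgHom.cancel_right hπ).mp ?_
  rw [AlgHom.comp_assoc, AlgHom.liftOfSurjective_comp, ← AlgHom.comp_assoc,
    toPrime_comp_mapDvd P hd hg₀ hg, hΨ]

end GrothLib.SpreadLoc
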